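import Cfsg.Agent.Fischer891.Lin
set_option linter.all false

set_option autoImplicit false

/-!
# S0480, piece (B): a Fischer space which is locally `Sp(2n, 2)`, `n ≥ 2`, is a space
`O^ε(2n + 2, 2)`
-/

namespace Cfsg.Agent.Fischer891.SpUp

open Cfsg Cfsg.Agent.Fischer480.Defs Cfsg.Agent.SporadicStructure.FischerSpace
open Cfsg.Agent.ThreeTransPolar.Basic Cfsg.Agent.Fischer891.Lin

section Quad

variable {V : Type*} [AddCommGroup V] [Module (ZMod 2) V]

/-- A function which satisfies the quadratic identity for its "one"-vectors is quadratic. -/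
theorem quad_of (B : LinearMap.BilinForm (ZMod 2) V) (hself : ∀ v, B v v = 0)
    (hsymm : ∀ u v, B u v = B v u) (q : V → ZMod 2)
    (h1 : ∀ y, q y = 1 → ∀ v, q (v + y) = q v + 1 + B v y)
    (h2 : ∃ y₁ y₂, q y₁ = 1 ∧ q y₂ = 1 ∧ B y₁ y₂ = 1) :
    ∀ v w, q (v + w) = q v + q w + B v w := by
  intro v w
  rcases z2_cases (q w) with hw | hw
  swap
  · rw [h1 w hw v, hw]
  rcases z2_cases (q v) with hv | hv
  swap
  · rw [add_comm v w, h1 v hv w, hv, hw, hsymm w v]
    ring
  rw [hv, hw, add_zero, zero_add]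
  rcases z2_cases (q (v + w)) with h | h
  · -- find `y` with `q y = 1` and `B v y = 0`
    obtain ⟨y, hy, hvy⟩ : ∃ y, q y = 1 ∧ B v y = 0 := by
      obtain ⟨y₁, y₂, hy₁, hy₂, h12⟩ := h2
      rcases z2_cases (B v y₁) with h3 | h3
      · exact ⟨y₁, hy₁, h3⟩
      rcases z2_cases (B v y₂) with h4 | h4
      · exact ⟨y₂, hy₂, h4⟩
      refine ⟨y₁ + y₂, ?_, ?_⟩
      · rw [h1 y₂ hy₂ y₁, hy₁, h12]; decide
      · rw [map_add, h3, h4]; decide
    have h5 : q (v + y) = 1 := by rw [h1 y hy v, hv, hvy]; decide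
    have h6 := h1 (v + y) h5 (w + y)
    have h7 : w + y + (v + y) = v + w := by
      have : w + y + (v + y) = v + w + (y + y) := by abel
      rw [this, v_add_self, add_zero]
    rw [h7, h, h1 y hy w, hw] at h6
    simp only [map_add, LinearMap.add_apply, hself, hsymm y v, hvy, hsymm w v, add_zero,
      zero_add] at h6
    rw [h]
    have h8 : (1 : ZMod 2) + B w y + 1 + (B v w + B w y) = B v w := by
      generalize B w y = c
      generalize B v w = d
      revert c d
      decide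
    have h9 : B v w + B w y = B v w + B w y := rfl
    rcases z2_cases (B v w) with h10 | h10
    · exact h10.symm
    · exfalso
      revert h6
      rw [h10]
      generalize B w y = c
      revert c
      decide
  · have h5 := h1 (v + w) h v
    have h6 : v + (v + w) = w := by rw [← add_assoc, v_add_self, zero_add]
    rw [h6, hv, hw, map_add, hself] at h5
    rw [h]
    rcases z2_cases (B v w) with h10 | h10
    · exfalso
      rw [h10] at h5
      exact absurd h5 (by decide)
    · exact h10.symm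

/-- a quadratic form from a function with the quadratic identity -/
def mkQ (q : V → ZMod 2) (B : LinearMap.BilinForm (ZMod 2) V)
    (h : ∀ v w, q (v + w) = q v + q w + B v w) : QuadraticForm (ZMod 2) V where
  toFun := q
  toFun_smul := by
    intro a v
    have h0 : q 0 = 0 := by
      have := h 0 0
      simp only [add_zero, map_zero] at this
      have h1 : q 0 + q 0 = 0 := z2_add_self _
      rw [h1] at this
      exact this
    rcases z2_cases a with ha | ha
    · rw [ha, zero_smul, h0]; simp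
    · rw [ha, one_smul]; simp
  exists_companion' := ⟨B, h⟩

theorem mkQ_apply (q : V → ZMod 2) (B : LinearMap.BilinForm (ZMod 2) V)
    (h : ∀ v w, q (v + w) = q v + q w + B v w) (v : V) : mkQ q B h v = q v := rfl

theorem polar_mkQ (q : V → ZMod 2) (B : LinearMap.BilinForm (ZMod 2) V)
    (h : ∀ v w, q (v + w) = q v + q w + B v w) (v w : V) :
    QuadraticMap.polar (mkQ q B h) v w = B v w := by
  simp only [QuadraticMap.polar, mkQ_apply, h]
  ring

end Quad

variable {G : Type*} [Group G] {D : Set G}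

/-- a chart of `Sp`-type, as in `IsSp` -/
structure SpChart (n : ℕ) (E : Set G) (B : LinearMap.BilinForm (ZMod 2) (Fin (2 * n) → ZMod 2))
    (f : G → Fin (2 * n) → ZMod 2) : Prop where
  alt : B.IsAlt
  nondeg : B.Nondegenerate
  ne : ∀ x ∈ E, f x ≠ 0
  comm : ∀ x ∈ E, ∀ y ∈ E, (Commute x y ↔ B (f x) (f y) = 0)
  inj : ∀ x ∈ E, ∀ y ∈ E, f x = f y → x = y
  surj : ∀ v, v ≠ 0 → ∃ x ∈ E, f x = v

theorem isSp_iff {n : ℕ} {E : Set G} : IsSp n E ↔ ∃ B f, SpChart n E B f := by
  constructor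
  · rintro ⟨Q, f, h0, h1, h2, h3, h4, h5⟩
    exact ⟨Q, f, h0, h1, h2, h3, h4, h5⟩
  · rintro ⟨Q, f, h0, h1, h2, h3, h4, h5⟩
    exact ⟨Q, f, h0, h1, h2, h3, h4, h5⟩

namespace SpChart

variable {n : ℕ} {E : Set G} {B : LinearMap.BilinForm (ZMod 2) (Fin (2 * n) → ZMod 2)}
  {f : G → Fin (2 * n) → ZMod 2}

theorem self (C : SpChart n E B f) (v : Fin (2 * n) → ZMod 2) : B v v = 0 := C.alt v

theorem symm (C : SpChart n E B f) (u v : Fin (2 * n) → ZMod 2) : B u v = B v u := by
  have h := C.alt (u + v)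
  simp only [map_add, LinearMap.add_apply, C.self, zero_add, add_zero] at h
  have h1 := v_add_eq_zero h
  first
  | exact h1
  | exact h1.symm

theorem nondeg' (C : SpChart n E B f) : ∀ v, (∀ u, B u v = 0) → v = 0 := fun v hv =>
  C.nondeg.2 v hv

theorem B_eq (C : SpChart n E B f) {x y : G} (hx : x ∈ E) (hy : y ∈ E) :
    B (f x) (f y) = nc x y := nc_eq_of (C.comm x hx y hy)

end SpChart

section Local

variable {n : ℕ} {B : LinearMap.BilinForm (ZMod 2) (Fin (2 * n) → ZMod 2)}
  {f : G → Fin (2 * n) → ZMod 2} {x : G}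

theorem third_mem (h : FData D) {v w : G} (hv : v ∈ Loc D x) (hw : w ∈ Loc D x)
    (hvw : ¬ Commute v w) : cj v w ∈ Loc D x := by
  refine ⟨cj_mem h hw.1, ?_, commute_cj_of hv.2.2 hw.2.2⟩
  rintro rfl
  exact not_commute_third h hv.1 hvw hv.2.2

/-- the third point of a hyperbolic line is the sum -/
theorem third_eq (h : FData D) (C : SpChart n (Loc D x) B f) {v w : G} (hv : v ∈ Loc D x)
    (hw : w ∈ Loc D x) (hvw : ¬ Commute v w) : f (cj v w) = f v + f w := by
  have hs := third_mem h hv hw hvw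
  have h1 : B (f v) (f w) = 1 := by rw [C.B_eq hv hw]; exact nc_eq_one.2 hvw
  have hsv : B (f v) (f (cj v w)) = 1 := by
    rw [C.B_eq hv hs]
    exact nc_eq_one.2 fun h2 => not_commute_third h hv.1 hvw h2.symm
  have hsw : B (f w) (f (cj v w)) = 1 := by
    rw [C.B_eq hw hs]
    refine nc_eq_one.2 fun h2 => ?_
    rw [third_comm h hv.1 hw.1 hvw] at h2
    exact not_commute_third h hw.1 (fun h3 => hvw h3.symm) h2.symm
  apply v_add_eq_zero
  refine C.nondeg' _ fun t => ?_
  have key : ∀ u, B u (f v) = 0 → B u (f w) = 0 → B u (f (cj v w)) = 0 := by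
    intro u huv huw
    by_cases hu0 : u = 0
    · rw [hu0]; simp
    obtain ⟨z, hz, rfl⟩ := C.surj u hu0
    rw [C.B_eq hz hs]
    rw [C.B_eq hz hv, nc_eq_zero] at huv
    rw [C.B_eq hz hw, nc_eq_zero] at huw
    exact nc_eq_zero.2 (commute_cj_of huv huw)
  have h2 := key (t + B t (f w) • f v + B t (f v) • f w) (by
      simp only [map_add, LinearMap.add_apply, map_smul, LinearMap.smul_apply, C.self,
        C.symm (f w) (f v), h1, smul_eq_mul, mul_zero, mul_one, add_zero]
      exact z2_add_self _) (by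
      simp only [map_add, LinearMap.add_apply, map_smul, LinearMap.smul_apply, C.self,
        h1, smul_eq_mul, mul_zero, mul_one, add_zero]
      exact z2_add_self _)
  simp only [map_add, LinearMap.add_apply, map_smul, LinearMap.smul_apply, hsv, hsw,
    smul_eq_mul, mul_one] at h2
  simp only [map_add]
  rw [← h2]
  ring

/-- exactly one of the two points of a twin class of `D_x ∩ D_y` commutes with `a` -/
theorem transversal {y a : G} (hx : x ∈ D) (ha : a ∈ D) (hy : y ∈ D)
    (hxa : ¬ Commute x a) (hyx : Commute y x) (hya : Commute y a)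
    (C : SpChart n (Loc D x) B f) {B' : LinearMap.BilinForm (ZMod 2) (Fin (2 * n) → ZMod 2)}
    {f' : G → Fin (2 * n) → ZMod 2} (C' : SpChart n (Loc D y) B' f')
    {z z' : G} (hz : z ∈ Loc D x) (hz' : z' ∈ Loc D x) (hzy : z ≠ y) (hzc : Commute z y)
    (hzz : f z' = f z + f y) : nc z a + nc z' a = 1 := by
  have hxy : x ≠ y := by rintro rfl; exact hxa hya
  have hay : a ≠ y := by rintro rfl; exact hxa hyx.symm
  have hyLx : y ∈ Loc D x := ⟨hy, hxy.symm, hyx.symm⟩
  have hxLy : x ∈ Loc D y := ⟨hx, hxy, hyx⟩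
  have haLy : a ∈ Loc D y := ⟨ha, hay, hya⟩
  have hz'c : Commute z' y := by
    rw [← nc_eq_zero, ← C.B_eq hz' hyLx, hzz, map_add, LinearMap.add_apply, C.self, C.B_eq hz hyLx,
      nc_eq_zero.2 hzc, add_zero]
  have hz'y : z' ≠ y := by
    rintro rfl
    have h1 : f z = 0 := by
      have h2 : f z + f z' + f z' = f z' + f z' := by rw [← hzz]
      rwa [add_assoc, v_add_self, add_zero] at h2
    exact C.ne z hz h1
  have hne : z ≠ z' := by
    rintro rfl
    have h1 : f y = 0 := by
      have h2 : f z + f z = f z + (f z + f y) := by rw [← hzz]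
      rw [← add_assoc, v_add_self, zero_add] at h2
      exact h2.symm
    exact C.ne y hyLx h1
  have hzLy : z ∈ Loc D y := ⟨hz.1, hzy, hzc.symm⟩
  have hz'Ly : z' ∈ Loc D y := ⟨hz'.1, hz'y, hz'c.symm⟩
  -- the two points are twins in `D_x ∩ D_y`
  have h3 : f' z + f' z' = 0 ∨ f' z + f' z' = f' x := by
    refine eq_zero_or_eq_of_perp B' C'.nondeg' ?_
    intro u hu
    by_cases hu0 : u = 0
    · rw [hu0]; simp
    obtain ⟨w, hw, rfl⟩ := C'.surj u hu0
    rw [map_add, C'.B_eq hw hzLy, C'.B_eq hw hz'Ly]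
    by_cases hwx : w = x
    · rw [hwx, nc_eq_zero.2 hz.2.2, nc_eq_zero.2 hz'.2.2, add_zero]
    rw [C'.B_eq hw hxLy, nc_eq_zero] at hu
    have hwLx : w ∈ Loc D x := ⟨hw.1, hwx, hu.symm⟩
    rw [← C.B_eq hwLx hz, ← C.B_eq hwLx hz', hzz, map_add, C.B_eq hwLx hyLx,
      nc_eq_zero.2 hw.2.2.symm, add_zero]
    exact z2_add_self _
  rcases h3 with h3 | h3
  · exact absurd (C'.inj z hzLy z' hz'Ly (v_add_eq_zero h3)) hne
  · rw [← C'.B_eq hzLy haLy, ← C'.B_eq hz'Ly haLy, ← LinearMap.add_apply, ← map_add, h3,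
      C'.B_eq hxLy haLy]
    exact nc_eq_one.2 hxa

open Classical in
/-- the indicator function of `X_a` in the chart at `x` -/
noncomputable def ind (D : Set G) (x : G) (f : G → Fin (2 * n) → ZMod 2) (a : G)
    (v : Fin (2 * n) → ZMod 2) : ZMod 2 :=
  if ∃ z ∈ Loc D x, f z = v ∧ Commute z a then 1 else 0

theorem ind_zero (C : SpChart n (Loc D x) B f) (a : G) : ind D x f a 0 = 0 := by
  unfold ind
  rw [if_neg]
  rintro ⟨z, hz, h0, -⟩
  exact C.ne z hz h0

theorem ind_eq (C : SpChart n (Loc D x) B f) (a : G) {z : G} (hz : z ∈ Loc D x) :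
    ind D x f a (f z) = 1 + nc z a := by
  unfold ind
  split_ifs with h
  · obtain ⟨w, hw, hwz, hwa⟩ := h
    rw [C.inj w hw z hz hwz] at hwa
    rw [nc_eq_zero.2 hwa, add_zero]
  · have h1 : ¬ Commute z a := fun h1 => h ⟨z, hz, rfl, h1⟩
    rw [nc_eq_one.2 h1]
    decide

theorem ind_eq_one (a : G) {v : Fin (2 * n) → ZMod 2} (h : ind D x f a v = 1) :
    ∃ z ∈ Loc D x, f z = v ∧ Commute z a := by
  unfold ind at h
  split_ifs at h with h1
  · exact h1
  · exact absurd h (by decide)

end Local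

section Main

variable {n : ℕ}

/-- the first quadratic identity for the indicator function -/
theorem ind_add_one (R : Rk D) (hloc : ∀ x ∈ D, IsSp n (Loc D x)) {x a : G} (hx : x ∈ D)
    (ha : a ∈ D) (hxa : ¬ Commute x a) {B : LinearMap.BilinForm (ZMod 2) (Fin (2 * n) → ZMod 2)}
    {f : G → Fin (2 * n) → ZMod 2} (C : SpChart n (Loc D x) B f) :
    ∀ y, ind D x f a y = 1 → ∀ v, ind D x f a (v + y) = ind D x f a v + 1 + B v y := by
  intro y₀ hy₀ v
  obtain ⟨y, hy, rfl, hya⟩ := ind_eq_one a hy₀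
  by_cases hv0 : v = 0
  · rw [hv0, zero_add, hy₀, ind_zero C]; simp
  by_cases hvy : v = f y
  · rw [hvy, v_add_self, ind_zero C, hy₀, C.self]; decide
  obtain ⟨z, hz, rfl⟩ := C.surj v hv0
  rcases z2_cases (B (f z) (f y)) with hB | hB
  · -- orthogonal
    have hzc : Commute z y := by rwa [C.B_eq hz hy, nc_eq_zero] at hB
    have hzy : z ≠ y := fun h => hvy (by rw [h])
    have hne : f z + f y ≠ 0 := fun h => hvy (v_add_eq_zero h)
    obtain ⟨z', hz', hzz⟩ := C.surj _ hne
    obtain ⟨B', f', C'⟩ := isSp_iff.1 (hloc y hy.1)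
    have h1 := transversal hx ha hy.1 hxa hy.2.2.symm hya C C' hz hz' hzy hzc hzz
    rw [← hzz, ind_eq C a hz', ind_eq C a hz, hB]
    revert h1
    generalize nc z a = c
    generalize nc z' a = d
    revert c d
    decide
  · have hzc : ¬ Commute z y := by rwa [C.B_eq hz hy, nc_eq_one] at hB
    have h1 := third_eq R.fd C hz hy hzc
    have h2 := third_mem R.fd hz hy hzc
    rw [← h1, ind_eq C a h2, ind_eq C a hz, hB]
    have h3 : nc (cj z y) a = nc z a := by
      have h4 : Commute (cj z y) a ↔ Commute z a := by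
        constructor
        · intro h5
          have h6 : cj y (cj z y) = z := by
            rw [third_comm R.fd hz.1 hy.1 hzc, cj_cj_self R.fd hy.1]
          rw [← h6]
          exact (commute_cj_of hya.symm h5.symm).symm
        · intro h5
          exact (commute_cj_of h5.symm hya.symm).symm
      rcases z2_cases (nc z a) with h5 | h5
      · rw [h5, nc_eq_zero, h4, ← nc_eq_zero]; exact h5
      · rw [h5, nc_eq_one, h4, ← nc_eq_one]; exact h5
    rw [h3]
    generalize nc z a = c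
    revert c
    decide

theorem exists_pair (R : Rk D) (hn : 2 ≤ n) (hloc : ∀ x ∈ D, IsSp n (Loc D x)) {x a : G}
    (hx : x ∈ D)
    (ha : a ∈ D) (hxa : ¬ Commute x a) {B : LinearMap.BilinForm (ZMod 2) (Fin (2 * n) → ZMod 2)}
    {f : G → Fin (2 * n) → ZMod 2} (C : SpChart n (Loc D x) B f) :
    ∃ y₁ y₂, ind D x f a y₁ = 1 ∧ ind D x f a y₂ = 1 ∧ B y₁ y₂ = 1 := by
  obtain ⟨y, hy, hyx, hya⟩ := exists_common R hx ha hxa
  have hyne : y ≠ x := by rintro rfl; exact hxa hya
  have hyL : y ∈ Loc D x := ⟨hy, hyne, hyx.symm⟩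
  have hy1 : ind D x f a (f y) = 1 := by
    rw [ind_eq C a hyL, nc_eq_zero.2 hya, add_zero]
  obtain ⟨k, hk, hks⟩ := exists_perp_not_mem B ![f y] (by omega)
  have hky : B k (f y) = 0 := hk 0
  have hk0 : k ≠ 0 := by
    rintro rfl
    exact hks (Submodule.zero_mem _)
  have hkny : k ≠ f y := by
    rintro rfl
    exact hks (Submodule.subset_span ⟨0, rfl⟩)
  obtain ⟨t, hty, htk⟩ : ∃ t, B t (f y) = 0 ∧ B t k = 1 := by
    by_contra hcon
    push Not at hcon
    have h1 : ∀ u, B u (f y) = 0 → B u k = 0 := by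
      intro u hu
      rcases z2_cases (B u k) with h | h
      · exact h
      · exact absurd h (hcon u hu)
    rcases eq_zero_or_eq_of_perp B C.nondeg' h1 with h | h
    · exact hk0 h
    · exact hkny h
  have hadd := ind_add_one R hloc hx ha hxa C (f y) hy1
  have hyB : B (f y) (f y) = 0 := C.self _
  have pick : ∀ u, B u (f y) = 0 → ∃ c : ZMod 2, ind D x f a (u + c • f y) = 1 := by
    intro u hu
    rcases z2_cases (ind D x f a u) with h | h
    · refine ⟨1, ?_⟩
      rw [one_smul, hadd u, h, hu]; decide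
    · refine ⟨0, ?_⟩
      rw [zero_smul, add_zero, h]
  obtain ⟨c, hc⟩ := pick k hky
  obtain ⟨c', hc'⟩ := pick t hty
  refine ⟨t + c' • f y, k + c • f y, hc', hc, ?_⟩
  simp only [map_add, LinearMap.add_apply, map_smul, LinearMap.smul_apply, htk, hty, hyB,
    C.symm (f y) k, hky, smul_eq_mul, mul_zero, add_zero]

theorem ind_quad (R : Rk D) (hn : 2 ≤ n) (hloc : ∀ x ∈ D, IsSp n (Loc D x)) {x a : G}
    (hx : x ∈ D)
    (ha : a ∈ D) (hxa : ¬ Commute x a) {B : LinearMap.BilinForm (ZMod 2) (Fin (2 * n) → ZMod 2)}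
    {f : G → Fin (2 * n) → ZMod 2} (C : SpChart n (Loc D x) B f) :
    ∀ v w, ind D x f a (v + w) = ind D x f a v + ind D x f a w + B v w :=
  quad_of B C.self C.symm _ (ind_add_one R hloc hx ha hxa C) (exists_pair R hn hloc hx ha hxa C)

/-- any two members of `A_x` have a common neighbour in `D_x` -/
theorem exists_common₂ (R : Rk D) (hn : 2 ≤ n) (hloc : ∀ x ∈ D, IsSp n (Loc D x)) {x a b : G}
    (hx : x ∈ D) (ha : a ∈ D) (hb : b ∈ D) (hxa : ¬ Commute x a) (hxb : ¬ Commute x b) :
    ∃ y ∈ Loc D x, Commute y a ∧ Commute y b := by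
  obtain ⟨B, f, C⟩ := isSp_iff.1 (hloc x hx)
  have hqa := ind_quad R hn hloc hx ha hxa C
  have hqb := ind_quad R hn hloc hx hb hxb C
  obtain ⟨y₁, y₂, h1, h2, h12⟩ := exists_pair R hn hloc hx ha hxa C
  have h3 : ind D x f a (y₁ + y₂) = 1 := by rw [hqa, h1, h2, h12]; decide
  have fin : ∀ v, ind D x f a v = 1 → ind D x f b v = 1 → ∃ y ∈ Loc D x, Commute y a ∧ Commute y b := by
    intro v hva hvb
    obtain ⟨z, hz, hzv, hza⟩ := ind_eq_one a hva
    obtain ⟨w, hw, hwv, hwb⟩ := ind_eq_one b hvb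
    have : w = z := C.inj w hw z hz (by rw [hwv, hzv])
    subst this
    exact ⟨w, hw, hza, hwb⟩
  rcases z2_cases (ind D x f b y₁) with h4 | h4
  swap
  · exact fin _ h1 h4
  rcases z2_cases (ind D x f b y₂) with h5 | h5
  swap
  · exact fin _ h2 h5
  refine fin _ h3 ?_
  rw [hqb, h4, h5, h12]; decide

/-- additivity of noncommutation along a line -/
theorem nc_third (R : Rk D) (hn : 2 ≤ n) (hloc : ∀ x ∈ D, IsSp n (Loc D x)) {a b c : G}
    (ha : a ∈ D) (hb : b ∈ D) (hc : c ∈ D) (hab : ¬ Commute a b) :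
    nc (cj a b) c = nc a c + nc b c := by
  have h := R.fd
  by_cases h1 : Commute a c
  · have h2 : Commute (cj a b) c ↔ Commute b c := by
      rw [commute_cj_left' h ha, cj_of_commute h1]
    rw [nc_eq_zero.2 h1, zero_add]
    rcases z2_cases (nc b c) with h5 | h5
    · rw [h5, nc_eq_zero, h2, ← nc_eq_zero]; exact h5
    · rw [h5, nc_eq_one, h2, ← nc_eq_one]; exact h5
  by_cases h2 : Commute b c
  · have h3 : Commute (cj a b) c ↔ Commute a c := by
      rw [third_comm h ha hb hab, commute_cj_left' h hb, cj_of_commute h2]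
    rw [nc_eq_zero.2 h2, add_zero]
    rcases z2_cases (nc a c) with h5 | h5
    · rw [h5, nc_eq_zero, h3, ← nc_eq_zero]; exact h5
    · rw [h5, nc_eq_one, h3, ← nc_eq_one]; exact h5
  obtain ⟨y, hy, hya, hyb⟩ := exists_common₂ R hn hloc hc ha hb (fun h3 => h1 h3.symm)
    (fun h3 => h2 h3.symm)
  obtain ⟨B, f, C⟩ := isSp_iff.1 (hloc y hy.1)
  have hcy : c ∈ Loc D y := ⟨hc, hy.2.1.symm, hy.2.2.symm⟩
  have hay : a ∈ Loc D y := ⟨ha, by rintro rfl; exact h1 hy.2.2.symm, hya⟩
  have hby : b ∈ Loc D y := ⟨hb, by rintro rfl; exact h2 hy.2.2.symm, hyb⟩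
  rw [← C.B_eq (third_mem h hay hby hab) hcy, third_eq h C hay hby hab, map_add,
    LinearMap.add_apply, C.B_eq hay hcy, C.B_eq hby hcy]

end Main

section Final

variable {n : ℕ}

/-- description of `A_x` -/
theorem case_b (h : FData D)
    (hadd : ∀ a ∈ D, ∀ b ∈ D, ∀ c ∈ D, ¬ Commute a b → nc (cj a b) c = nc a c + nc b c)
    {x a b : G} (hx : x ∈ D) (ha : a ∈ D) (hb : b ∈ D) (hxa : ¬ Commute x a)
    (hxb : ¬ Commute x b) :
    b = a ∨ b = cj x a ∨ ∃ z ∈ Loc D x, ¬ Commute z a ∧ (b = cj z a ∨ b = cj x (cj z a)) := by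
  have main : ∀ b ∈ D, ¬ Commute x b → ¬ Commute b a →
      b = cj x a ∨ ∃ z ∈ Loc D x, ¬ Commute z a ∧ b = cj z a := by
    intro b hb hxb hba
    have h1 : nc (cj b a) x = 0 := by
      rw [hadd b hb a ha x hx hba, nc_eq_one.2 (fun h2 => hxb h2.symm),
        nc_eq_one.2 (fun h2 => hxa h2.symm)]
      decide
    rw [nc_eq_zero] at h1
    by_cases hz : cj b a = x
    · left
      rw [← hz, cj_third' h hb ha hba]
    · right
      refine ⟨cj b a, ⟨cj_mem h ha, hz, h1.symm⟩, ?_, (cj_third' h hb ha hba).symm⟩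
      rw [third_comm h hb ha hba]
      exact not_commute_third h ha (fun h2 => hba h2.symm)
  by_cases hab : b = a
  · exact Or.inl hab
  by_cases hba : Commute b a
  · right; right
    have hb' : cj x b ∈ D := cj_mem h hb
    have h1 : ¬ Commute x (cj x b) := fun h2 => not_commute_third h hx hxb h2.symm
    have h2 : ¬ Commute (cj x b) a := by
      rw [← nc_eq_one, hadd x hx b hb a ha hxb, nc_eq_one.2 hxa, nc_eq_zero.2 hba, add_zero]
    rcases main _ hb' h1 h2 with h3 | ⟨z, hz, hza, h3⟩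
    · exact absurd (cj_inj.1 h3) hab
    · refine ⟨z, hz, hza, Or.inr ?_⟩
      rw [← h3, cj_cj_self h hx]
  · rcases main b hb hxb hba with h3 | ⟨z, hz, hza, h3⟩
    · exact Or.inr (Or.inl h3)
    · exact Or.inr (Or.inr ⟨z, hz, hza, Or.inl h3⟩)

/-- the quadratic space in which `D` lives -/
abbrev W (n : ℕ) : Type := ZMod 2 × ZMod 2 × (Fin (2 * n) → ZMod 2)

/-- its bilinear form -/
def formW (B : LinearMap.BilinForm (ZMod 2) (Fin (2 * n) → ZMod 2)) :
    LinearMap.BilinForm (ZMod 2) (W n) :=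
  LinearMap.mk₂ (ZMod 2) (fun s t => s.1 * t.2.1 + s.2.1 * t.1 + B s.2.2 t.2.2)
    (by intro s s' t; simp only [Prod.fst_add, Prod.snd_add, map_add, LinearMap.add_apply]; ring)
    (by intro c s t; simp only [Prod.smul_fst, Prod.smul_snd, map_smul, LinearMap.smul_apply,
          smul_eq_mul]; ring)
    (by intro s t t'; simp only [Prod.fst_add, Prod.snd_add, map_add]; ring)
    (by intro c s t; simp only [Prod.smul_fst, Prod.smul_snd, map_smul, smul_eq_mul]; ring)

theorem formW_apply (B : LinearMap.BilinForm (ZMod 2) (Fin (2 * n) → ZMod 2)) (s t : W n) :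
    formW B s t = s.1 * t.2.1 + s.2.1 * t.1 + B s.2.2 t.2.2 := rfl

/-- its quadratic form -/
def quadW (q : (Fin (2 * n) → ZMod 2) → ZMod 2) (s : W n) : ZMod 2 :=
  s.1 + s.1 * s.2.1 + s.2.1 + q s.2.2

theorem quadW_add (B : LinearMap.BilinForm (ZMod 2) (Fin (2 * n) → ZMod 2))
    (q : (Fin (2 * n) → ZMod 2) → ZMod 2) (hq : ∀ v w, q (v + w) = q v + q w + B v w)
    (s t : W n) : quadW q (s + t) = quadW q s + quadW q t + formW B s t := by
  simp only [quadW, formW_apply, Prod.fst_add, Prod.snd_add, hq]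
  ring

/-- **(B)** -/
theorem isO_of_locally_Sp (R : Rk D) (hn : 2 ≤ n) (hloc : ∀ x ∈ D, IsSp n (Loc D x)) :
    IsO (n + 1) D := by
  classical
  have h := R.fd
  have hadd : ∀ a ∈ D, ∀ b ∈ D, ∀ c ∈ D, ¬ Commute a b → nc (cj a b) c = nc a c + nc b c :=
    fun a ha b hb c hc hab => nc_third R hn hloc ha hb hc hab
  obtain ⟨x, hx⟩ := h.nonempty
  obtain ⟨a, ha, hxa⟩ := R.exCol x hx
  obtain ⟨B, f, C⟩ := isSp_iff.1 (hloc x hx)
  set q := ind D x f a with hqdef
  have hq : ∀ v w, q (v + w) = q v + q w + B v w := ind_quad R hn hloc hx ha hxa C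
  have hq0 : q 0 = 0 := ind_zero C a
  have hqz : ∀ z ∈ Loc D x, q (f z) = 1 + nc z a := fun z hz => ind_eq C a hz
  have hax : nc a x = 1 := nc_eq_one.2 fun h1 => hxa h1.symm
  have hxa1 : nc x a = 1 := nc_eq_one.2 hxa
  have haa : nc a a = 0 := nc_eq_zero.2 (Commute.refl _)
  have two : ∀ c : ZMod 2, c + c = 0 := z2_add_self
  -- uniqueness
  have uniq : ∀ u u' : Fin (2 * n) → ZMod 2, (∀ z ∈ Loc D x, B (f z) u = B (f z) u') → u = u' := by
    intro u u' huu
    apply v_add_eq_zero
    refine C.nondeg' _ fun t => ?_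
    by_cases ht : t = 0
    · rw [ht]; simp
    obtain ⟨z, hz, rfl⟩ := C.surj t ht
    rw [map_add, huu z hz]
    exact two _
  -- facts on the four types of elements of `A_x`
  have hxz : ∀ z ∈ Loc D x, nc x z = 0 := fun z hz => nc_eq_zero.2 hz.2.2
  have hzx : ∀ z ∈ Loc D x, nc z x = 0 := fun z hz => nc_eq_zero.2 hz.2.2.symm
  have t1 : ∀ c ∈ D, nc (cj x a) c = nc x c + nc a c := fun c hc => hadd x hx a ha c hc hxa
  have t2 : ∀ z ∈ Loc D x, ¬ Commute z a → ∀ c ∈ D, nc (cj z a) c = nc z c + nc a c :=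
    fun z hz hza c hc => hadd z hz.1 a ha c hc hza
  have t3 : ∀ z ∈ Loc D x, ¬ Commute z a → ¬ Commute x (cj z a) := by
    intro z hz hza h1
    have h2 := t2 z hz hza x hx
    rw [hzx z hz, hax, zero_add, nc_eq_one] at h2
    exact h2 h1.symm
  have t4 : ∀ z ∈ Loc D x, ¬ Commute z a → ∀ c ∈ D,
      nc (cj x (cj z a)) c = nc x c + nc z c + nc a c := by
    intro z hz hza c hc
    rw [hadd x hx (cj z a) (cj_mem h ha) c hc (t3 z hz hza), t2 z hz hza c hc]
    ring
  have hu : ∀ b ∈ D, ¬ Commute x b → ∃ u, ∀ z ∈ Loc D x, B (f z) u = nc z a + nc z b := by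
    intro b hb hxb
    rcases case_b h hadd hx ha hb hxa hxb with rfl | rfl | ⟨z₀, hz₀, hz₀a, rfl | rfl⟩
    · exact ⟨0, fun z _ => by rw [map_zero, two]⟩
    · refine ⟨0, fun z hz => ?_⟩
      rw [nc_comm z (cj x a), t1 z hz.1, hxz z hz, zero_add, nc_comm a z, two, map_zero]
    · refine ⟨f z₀, fun z hz => ?_⟩
      rw [nc_comm z (cj z₀ a), t2 z₀ hz₀ hz₀a z hz.1, C.B_eq hz hz₀, nc_comm z z₀, nc_comm a z]
      generalize nc z a = c
      generalize nc z₀ z = d
      revert c d
      decide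
    · refine ⟨f z₀, fun z hz => ?_⟩
      rw [nc_comm z (cj x (cj z₀ a)), t4 z₀ hz₀ hz₀a z hz.1, C.B_eq hz hz₀, nc_comm z z₀,
        nc_comm a z, hxz z hz]
      generalize nc z a = c
      generalize nc z₀ z = d
      revert c d
      decide
  choose! u hu using hu
  have hua : u a = 0 := by
    apply uniq
    intro z hz
    rw [hu a ha hxa z hz, two, map_zero]
  have hxxa : ¬ Commute x (cj x a) := fun h2 => not_commute_third h hx hxa h2.symm
  have hux : u (cj x a) = 0 := by
    apply uniq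
    intro z hz
    rw [hu _ (cj_mem h ha) hxxa z hz, nc_comm z (cj x a), t1 z hz.1, hxz z hz, zero_add,
      nc_comm a z, two, map_zero]
  have hu2 : ∀ z ∈ Loc D x, ¬ Commute z a → u (cj z a) = f z := by
    intro z₀ hz₀ hz₀a
    apply uniq
    intro z hz
    rw [hu _ (cj_mem h ha) (t3 z₀ hz₀ hz₀a) z hz, nc_comm z (cj z₀ a), t2 z₀ hz₀ hz₀a z hz.1,
      C.B_eq hz hz₀, nc_comm z z₀, nc_comm a z]
    generalize nc z a = c
    generalize nc z₀ z = d
    revert c d
    decide
  have t5 : ∀ z ∈ Loc D x, ¬ Commute z a → ¬ Commute x (cj x (cj z a)) := by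
    intro z hz hza h2
    exact not_commute_third h hx (t3 z hz hza) h2.symm
  have hu3 : ∀ z ∈ Loc D x, ¬ Commute z a → u (cj x (cj z a)) = f z := by
    intro z₀ hz₀ hz₀a
    apply uniq
    intro z hz
    rw [hu _ (cj_mem h (cj_mem h ha)) (t5 z₀ hz₀ hz₀a) z hz, nc_comm z (cj x (cj z₀ a)),
      t4 z₀ hz₀ hz₀a z hz.1, C.B_eq hz hz₀, nc_comm z z₀, nc_comm a z, hxz z hz]
    generalize nc z a = c
    generalize nc z₀ z = d
    revert c d
    decide
  -- the map
  let Φ : G → W n := fun b =>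
    if b = x then (1, 0, 0) else if Commute x b then (nc b a, 0, f b) else (nc b a, 1, u b)
  have Φx : Φ x = (1, 0, 0) := by simp [Φ]
  have Φz : ∀ z ∈ Loc D x, Φ z = (nc z a, 0, f z) := by
    intro z hz
    simp only [Φ]
    rw [if_neg hz.2.1, if_pos hz.2.2]
  have Φb : ∀ b, ¬ Commute x b → Φ b = (nc b a, 1, u b) := by
    intro b hb
    simp only [Φ]
    rw [if_neg, if_neg hb]
    rintro rfl
    exact hb (Commute.refl _)
  have tri : ∀ b ∈ D, b = x ∨ b ∈ Loc D x ∨ ¬ Commute x b := by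
    intro b hb
    by_cases h1 : b = x
    · exact Or.inl h1
    by_cases h2 : Commute x b
    · exact Or.inr (Or.inl ⟨hb, h1, h2⟩)
    · exact Or.inr (Or.inr h2)
  -- commutation
  have main : ∀ b ∈ D, ∀ c ∈ D, nc b c = formW B (Φ b) (Φ c) := by
    intro b hb c hc
    have hfsymm : ∀ s t : W n, formW B s t = formW B t s := by
      intro s t
      rw [formW_apply, formW_apply, C.symm]
      ring
    have key_x : ∀ c ∈ D, nc x c = formW B (Φ x) (Φ c) := by
      intro c hc
      rw [Φx]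
      rcases tri c hc with rfl | hc' | hc'
      · rw [Φx, nc_eq_zero.2 (Commute.refl _), formW_apply]; simp
      · rw [Φz c hc', nc_eq_zero.2 hc'.2.2, formW_apply]; simp
      · rw [Φb c hc', nc_eq_one.2 hc', formW_apply]; simp
    have key_z : ∀ z ∈ Loc D x, ∀ c ∈ D, nc z c = formW B (Φ z) (Φ c) := by
      intro z hz c hc
      rcases tri c hc with rfl | hc' | hc'
      · rw [hfsymm, ← key_x z hz.1, nc_comm]
      · rw [Φz z hz, Φz c hc', formW_apply, ← C.B_eq hz hc']; simp
      · rw [Φz z hz, Φb c hc', formW_apply, hu c hc hc' z hz]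
        simp only [mul_one, zero_mul, add_zero]
        rw [← add_assoc, two, zero_add]
    rcases tri b hb with rfl | hb' | hb'
    · exact key_x c hc
    · exact key_z b hb' c hc
    rcases tri c hc with rfl | hc' | hc'
    · rw [hfsymm, ← key_x b hb, nc_comm]
    · rw [hfsymm, ← key_z c hc' b hb, nc_comm]
    have hxc : nc x c = 1 := nc_eq_one.2 hc'
    rw [Φb b hb', Φb c hc', formW_apply]
    rcases case_b h hadd hx ha hb hxa hb' with rfl | rfl | ⟨z₀, hz₀, hz₀a, rfl | rfl⟩
    · rw [hua, haa, nc_comm b c]; simp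
    · rw [hux, t1 c hc, t1 a ha, haa, hxa1, hxc, nc_comm a c]; simp
    · rw [hu2 z₀ hz₀ hz₀a, t2 z₀ hz₀ hz₀a c hc, t2 z₀ hz₀ hz₀a a ha, haa, nc_eq_one.2 hz₀a,
        hu c hc hc' z₀ hz₀, nc_eq_one.2 hz₀a, nc_comm a c]
      simp only [mul_one, one_mul, add_zero]
      generalize nc c a = s
      generalize nc z₀ c = t
      revert s t
      decide
    · rw [hu3 z₀ hz₀ hz₀a, t4 z₀ hz₀ hz₀a c hc, t4 z₀ hz₀ hz₀a a ha, haa, nc_eq_one.2 hz₀a,
        hu c hc hc' z₀ hz₀, nc_eq_one.2 hz₀a, nc_comm a c, hxa1, hxc]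
      simp only [mul_one, one_mul, add_zero]
      generalize nc c a = s
      generalize nc z₀ c = t
      revert s t
      decide
  -- norms
  have norm : ∀ b ∈ D, quadW q (Φ b) = 1 := by
    intro b hb
    rcases tri b hb with rfl | hb' | hb'
    · rw [Φx]; simp [quadW, hq0]
    · rw [Φz b hb']
      simp only [quadW, hqz b hb', mul_zero, add_zero]
      generalize nc b a = c
      revert c
      decide
    · rw [Φb b hb']
      have hqu : q (u b) = 0 := by
        rcases case_b h hadd hx ha hb hxa hb' with rfl | rfl | ⟨z₀, hz₀, hz₀a, rfl | rfl⟩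
        · rw [hua, hq0]
        · rw [hux, hq0]
        · rw [hu2 z₀ hz₀ hz₀a, hqz z₀ hz₀, nc_eq_one.2 hz₀a]; decide
        · rw [hu3 z₀ hz₀ hz₀a, hqz z₀ hz₀, nc_eq_one.2 hz₀a]; decide
      simp only [quadW, hqu, mul_one, add_zero]
      generalize nc b a = c
      revert c
      decide
  -- surjectivity
  have surj : ∀ s : W n, quadW q s = 1 → ∃ b ∈ D, Φ b = s := by
    rintro ⟨α, β, v⟩ hs
    simp only [quadW] at hs
    rcases z2_cases β with hβ | hβ
    · subst hβ
      simp only [mul_zero, add_zero] at hs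
      by_cases hv : v = 0
      · subst hv
        rw [hq0, add_zero] at hs
        exact ⟨x, hx, by rw [Φx, hs]⟩
      · obtain ⟨z, hz, rfl⟩ := C.surj v hv
        refine ⟨z, hz.1, ?_⟩
        rw [Φz z hz]
        rw [hqz z hz] at hs
        have : nc z a = α := by
          revert hs
          generalize nc z a = c
          revert c α
          decide
        rw [this]
    · subst hβ
      have hqv : q v = 0 := by
        revert hs
        generalize q v = c
        revert c α
        decide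
      by_cases hv : v = 0
      · subst hv
        rcases z2_cases α with hα | hα
        · subst hα
          refine ⟨a, ha, ?_⟩
          rw [Φb a hxa, hua, haa]
        · subst hα
          refine ⟨cj x a, cj_mem h ha, ?_⟩
          rw [Φb _ hxxa, hux, t1 a ha, hxa1, haa, add_zero]
      · obtain ⟨z, hz, rfl⟩ := C.surj v hv
        have hza1 : nc z a = 1 := by
          rw [hqz z hz] at hqv
          revert hqv
          generalize nc z a = c
          revert c
          decide
        have hza : ¬ Commute z a := nc_eq_one.1 hza1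
        rcases z2_cases α with hα | hα
        · subst hα
          refine ⟨cj x (cj z a), cj_mem h (cj_mem h ha), ?_⟩
          rw [Φb _ (t5 z hz hza), hu3 z hz hza, t4 z hz hza a ha, hxa1, hza1, haa]
          congr 1
        · subst hα
          refine ⟨cj z a, cj_mem h ha, ?_⟩
          rw [Φb _ (t3 z hz hza), hu2 z hz hza, t2 z hz hza a ha, hza1, haa, add_zero]
  -- coordinates
  have hfin : Module.finrank (ZMod 2) (W n) = Module.finrank (ZMod 2) (Fin (2 * (n + 1)) → ZMod 2) := by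
    rw [Module.finrank_prod, Module.finrank_prod]
    simp only [Module.finrank_self, Module.finrank_fin_fun]
    ring
  let e : W n ≃ₗ[ZMod 2] (Fin (2 * (n + 1)) → ZMod 2) := LinearEquiv.ofFinrankEq _ _ hfin
  let Q₀ : QuadraticForm (ZMod 2) (W n) := mkQ (quadW q) (formW B) (quadW_add B q hq)
  let Q : QuadraticForm (ZMod 2) (Fin (2 * (n + 1)) → ZMod 2) := Q₀.comp e.symm.toLinearMap
  have hQ : ∀ s, Q (e s) = quadW q s := by
    intro s
    show Q₀ (e.symm (e s)) = quadW q s
    rw [e.symm_apply_apply]; rfl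
  have hP : ∀ s t, QuadraticMap.polar Q (e s) (e t) = formW B s t := by
    intro s t
    rw [← polar_mkQ (quadW q) (formW B) (quadW_add B q hq)]
    simp only [QuadraticMap.polar, ← map_add, hQ]
    rfl
  refine ⟨Q, fun b => e (Φ b), ?_, ?_, ?_, ?_, ?_⟩
  · intro v hv
    obtain ⟨s, rfl⟩ := e.surjective v
    have hs : ∀ t, formW B s t = 0 := fun t => by rw [← hP]; exact hv _
    obtain ⟨α, β, w⟩ := s
    have h1 := hs (0, 1, 0)
    have h2 := hs (1, 0, 0)
    rw [formW_apply] at h1 h2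
    simp only [mul_one, mul_zero, add_zero, map_zero, zero_add] at h1 h2
    have h3 : w = 0 := by
      refine C.nondeg' w fun t => ?_
      have h4 := hs (0, 0, t)
      rw [formW_apply] at h4
      simp only [mul_zero, zero_add] at h4
      rw [C.symm]
      exact h4
    rw [h1, h2, h3]
    exact map_zero e
  · intro b hb
    rw [hQ, norm b hb]
  · intro b hb c hc
    rw [hP, ← main b hb c hc, nc_eq_zero]
  · intro b hb c hc hbc
    have hbc' : Φ b = Φ c := e.injective hbc
    refine R.perp_sub b hb c hc ?_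
    intro d hd hdb
    rw [← nc_eq_zero, main d hd c hc, ← hbc', ← main d hd b hb, nc_eq_zero]
    exact hdb
  · intro v hv
    obtain ⟨s, rfl⟩ := e.surjective v
    rw [hQ] at hv
    obtain ⟨b, hb, hbs⟩ := surj s hv
    exact ⟨b, hb, congrArg e hbs⟩

end Final

end Cfsg.Agent.Fischer891.SpUp
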