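import Cfsg.Agent.Fischer891.Parity
import Cfsg.Agent.Fischer886.Lab
set_option linter.all false

set_option autoImplicit false

/-!
# S0480: a simple group is not of type `Sym(n)`
-/

namespace Cfsg.Agent.Fischer891.FinalSym

open Cfsg Cfsg.Agent.Fischer480.Defs Cfsg.Agent.SporadicStructure.FischerSpace
open Cfsg.Agent.ThreeTransPolar.Basic Cfsg.Agent.Fischer891.Lin
open Cfsg.Agent.Fischer891.Parity Cfsg.Agent.Fischer886.Lab

universe u

variable {G : Type u} [Group G] {D : Set G} {n : ℕ}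

/-- **A simple group is not of type `Sym`.** -/
theorem not_simple_of_isSym [IsSimpleGroup G] (R : Rk D) (hn : 5 ≤ n) (hS : IsSym n D) : False := by
  have h := R.fd
  obtain ⟨t, hL⟩ := labels_of_isSym hS
  obtain ⟨x, hx⟩ := h.nonempty
  obtain ⟨a, ha, hxa⟩ := R.exCol x hx
  have hodd := odd_relation h.gen hx ha hxa
  have hcard : 5 ≤ Fintype.card (Fin n) := by rw [Fintype.card_fin]; exact hn
  have key : ∀ p ∈ words D, ∃ γ : Equiv.Perm (Fin n),
      (∀ i j, i ≠ j → cj p.1 (t i j) = t (γ i) (γ j)) ∧ p.2 = Equiv.Perm.sign γ := by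
    intro p hp
    induction hp using Subgroup.closure_induction with
    | mem p hp =>
      obtain ⟨i, j, hij, hij'⟩ := hL.surj p.1 hp.1
      refine ⟨Equiv.swap i j, fun k l hkl => ?_, ?_⟩
      · rw [← hij']
        exact hL.conj_label h hcard (Set.Subset.refl _)
          (fun y _ z hz _ => cj_mem h hz) hij hkl
      · rw [hp.2, Equiv.Perm.sign_swap hij]
    | one =>
      exact ⟨1, fun i j _ => cj_one _, by simp⟩
    | mul p q _ _ hp hq =>
      obtain ⟨γ, h1, h2⟩ := hp
      obtain ⟨δ, h3, h4⟩ := hq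
      refine ⟨γ * δ, fun i j hij => ?_, ?_⟩
      · show cj (p.1 * q.1) (t i j) = _
        rw [cj_mul, h3 i j hij, h1 _ _ (δ.injective.ne hij)]
        rfl
      · show p.2 * q.2 = _
        rw [h2, h4, Equiv.Perm.sign_mul]
    | inv p _ hp =>
      obtain ⟨γ, h1, h2⟩ := hp
      refine ⟨γ⁻¹, fun i j hij => ?_, ?_⟩
      · show cj p.1⁻¹ (t i j) = _
        have h5 := h1 (γ⁻¹ i) (γ⁻¹ j) (γ⁻¹.injective.ne hij)
        have h6 : ∀ k, γ (γ⁻¹ k) = k := fun k => γ.apply_symm_apply k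
        rw [h6, h6] at h5
        rw [← h5, cj_inv_cj]
      · show p.2⁻¹ = _
        rw [h2, Equiv.Perm.sign_inv]
        simp
  obtain ⟨γ, h1, h2⟩ := key _ hodd
  have h3 : ∀ i j, i ≠ j → (γ i = i ∧ γ j = j) ∨ (γ i = j ∧ γ j = i) := by
    intro i j hij
    have h4 := h1 i j hij
    rw [cj_one] at h4
    rcases hL.inj hcard hij (γ.injective.ne hij) h4 with h5 | h5
    · exact Or.inl ⟨h5.1.symm, h5.2.symm⟩
    · exact Or.inr ⟨h5.2.symm, h5.1.symm⟩
  have h4 : γ = 1 := by
    ext i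
    obtain ⟨j, hji, -⟩ := exists_fifth hcard i i i i
    obtain ⟨k, hki, hkj, -⟩ := exists_fifth hcard i j i j
    rcases h3 i j hji.symm with h5 | h5
    · rw [h5.1]; rfl
    · rcases h3 i k hki.symm with h6 | h6
      · rw [h6.1]; rfl
      · exfalso
        rw [h5.1] at h6
        exact hkj h6.1.symm
  rw [h4] at h2
  simp at h2

end Cfsg.Agent.Fischer891.FinalSym
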